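import Groth.Agent.UnirGa27.Lift
import Groth.Agent.AbVarLib.KernelTorsor
import Mathlib.AlgebraicGeometry.AffineSpace

/-!
# An extension of a unirational group by `𝔾_a` is unirational
-/

set_option autoImplicit false
set_option linter.all false
set_option backward.isDefEq.respectTransparency false
set_option backward.isDefEq.respectTransparency.types false
set_option maxHeartbeats 1000000

universe u

open CategoryTheory CategoryTheory.Limits AlgebraicGeometry MonoidalCategory CartesianMonoidalCategory MonObj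
open Groth.Agent.SGA3cLib

namespace Groth.Agent.UnirGa27

variable {C : Type*} [Category C] [CartesianMonoidalCategory C]

theorem isPullback_whiskerRight {U X : C} (s : U ⟶ X) (N : C) :
    IsPullback (s ▷ N) (fst U N) (fst X N) s := by
  refine IsPullback.of_isLimit' ⟨whiskerRight_fst s N⟩
    (PullbackCone.IsLimit.mk _ (fun c => lift c.snd (c.fst ≫ snd X N)) ?_ ?_ ?_)
  · intro c
    apply CartesianMonoidalCategory.hom_ext
    · simp [c.condition]
    · simp
  · intro c; simp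
  · intro c m h1 h2
    apply CartesianMonoidalCategory.hom_ext
    · simpa using h2
    · rw [← h1]; simp

/-- Translating a lift by the kernel gives the whole preimage. -/
theorem range_translate {S : Scheme.{u}} {G Q N U : Over S} [GrpObj G] [GrpObj Q] (q : G ⟶ Q) [IsMonHom q]
    (i : N ⟶ G) (hker : AlgGrp.IsKernel i q) (s : U ⟶ G) :
    Set.range ((fst U N ≫ s) * (snd U N ≫ i)).left = q.left ⁻¹' Set.range (s ≫ q).left := by
  have h := ((isPullback_whiskerRight s N).paste_horiz (AbVarLib.isPullback_kernel q i hker).flip).map (Over.forget S)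
  have e : (fst U N ≫ s) * (snd U N ≫ i) = s ▷ N ≫ (fst G N * (snd G N ≫ i)) := by
    rw [MonObj.comp_mul, whiskerRight_fst, whiskerRight_snd_assoc]
  rw [e, show (s ▷ N ≫ (fst G N * (snd G N ≫ i))).left =
    (Over.forget S).map (s ▷ N ≫ (fst G N * (snd G N ≫ i))) from rfl, ← h.isoPullback_hom_fst]
  rw [Scheme.Hom.comp_base, TopCat.coe_comp]
  exact (Function.Surjective.range_comp (Scheme.Hom.surjective h.isoPullback.hom) _).trans (Scheme.Pullback.range_fst _ _)

/-- An extension by `𝔾_a` of a group receiving a dominant map from an open of affine space receives one. -/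
theorem unirational_of_extension {κ : Type u} [Field κ]
    (G Q : Over (Spec (CommRingCat.of κ))) [GrpObj G] [GrpObj Q]
    [LocallyOfFiniteType G.hom] [QuasiCompact G.hom] [LocallyOfFiniteType Q.hom]
    (q : G ⟶ Q) [IsMonHom q] [Flat q.left] (hq : Function.Surjective q.left.base)
    (i : Red.Ga (Spec (CommRingCat.of κ)) ⟶ G) [IsMonHom i] (hker : AlgGrp.IsKernel i q)
    (n : ℕ) (V : (AffineSpace (ULift.{u} (Fin n)) (Spec (CommRingCat.of κ))).Opens)
    (ψ : (V : Scheme.{u}) ⟶ Q.left)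
    (hV : (V : Set (AffineSpace (ULift.{u} (Fin n)) (Spec (CommRingCat.of κ)))).Nonempty) (hψd : DenseRange ψ.base)
    (hψ : ψ ≫ Q.hom = V.ι ≫ (AffineSpace (ULift.{u} (Fin n)) (Spec (CommRingCat.of κ)) ↘ Spec (CommRingCat.of κ))) :
    ∃ (W : (AffineSpace (ULift.{u} (Fin (n + 1))) (Spec (CommRingCat.of κ))).Opens)
        (θ : (W : Scheme.{u}) ⟶ G.left),
      (W : Set (AffineSpace (ULift.{u} (Fin (n + 1))) (Spec (CommRingCat.of κ)))).Nonempty ∧ DenseRange θ.base ∧
      θ ≫ G.hom = W.ι ≫ (AffineSpace (ULift.{u} (Fin (n + 1))) (Spec (CommRingCat.of κ)) ↘ Spec (CommRingCat.of κ)) := by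
  let S : Scheme.{u} := Spec (CommRingCat.of κ)
  let An : Scheme.{u} := AffineSpace (ULift.{u} (Fin n)) S
  let Am : Scheme.{u} := AffineSpace (ULift.{u} (Fin (n + 1))) S
  haveI : Surjective q.left := ⟨hq⟩
  haveI : IsLocallyNoetherian Q.left := LocallyOfFiniteType.isLocallyNoetherian Q.hom
  haveI : QuasiSeparatedSpace ↥Q.left := inferInstance
  haveI : QuasiSeparated Q.hom := (HasAffineProperty.iff_of_isAffine (P := @QuasiSeparated)).2 inferInstance
  haveI : QuasiCompact (q.left ≫ Q.hom) := by rw [Over.w q]; infer_instance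
  haveI : QuasiCompact q.left := QuasiCompact.of_comp q.left Q.hom
  haveI : LocallyOfFiniteType (q.left ≫ Q.hom) := by rw [Over.w q]; infer_instance
  haveI : LocallyOfFiniteType q.left := locallyOfFiniteType_of_comp q.left Q.hom
  haveI : LocallyOfFinitePresentation q.left := inferInstance
  haveI : UniversallyOpen q.left := UniversallyOpen.of_flat q.left
  -- shrink to an affine open
  obtain ⟨x, hx⟩ := hV
  obtain ⟨V', hV', hxV', hle⟩ := exists_isAffineOpen_mem_and_subset hx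
  have hle' : V' ≤ V := hle
  let ψ' : (V' : Scheme.{u}) ⟶ Q.left := An.homOfLE hle' ≫ ψ
  have hψ'd : Dense (Set.range ψ'.base) := by
    refine dense_iff_inter_open.2 fun O hO hOne => ?_
    obtain ⟨v, hv⟩ := hψd.exists_mem_open hO hOne
    have hopen : IsOpen (V.ι '' (ψ ⁻¹' O)) := V.ι.isOpenEmbedding.isOpenMap _ (hO.preimage ψ.continuous)
    obtain ⟨z, ⟨w, hw, rfl⟩, hz⟩ := nonempty_preirreducible_inter hopen V'.isOpen ⟨_, v, hv, rfl⟩ ⟨x, hxV'⟩
    refine ⟨ψ w, hw, ⟨_, hz⟩, ?_⟩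
    show ψ (An.homOfLE hle' _) = ψ w
    congr 1
    apply V.ι.isOpenEmbedding.injective
    rw [← Scheme.Hom.comp_apply, Scheme.homOfLE_ι]
    rfl
  let U : Over S := Over.mk (V'.ι ≫ (An ↘ S))
  let ψU : U ⟶ Q := Over.homMk ψ' (by
    show (An.homOfLE hle' ≫ ψ) ≫ Q.hom = V'.ι ≫ (An ↘ S)
    rw [Category.assoc, hψ, Scheme.homOfLE_ι_assoc])
  obtain ⟨z, hz⟩ := exists_lift q i hker Γ(An, V') (hV'.isoSpec.inv ≫ ψ')
  let s : U ⟶ G := Over.homMk (hV'.isoSpec.hom ≫ z) (by
    show (hV'.isoSpec.hom ≫ z) ≫ G.hom = V'.ι ≫ (An ↘ S)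
    rw [Category.assoc, ← Over.w q, ← Category.assoc z, hz, Category.assoc, Iso.hom_inv_id_assoc]
    exact Over.w ψU)
  have hs : (s ≫ q).left = ψ' := by
    show (hV'.isoSpec.hom ≫ z) ≫ q.left = ψ'
    rw [Category.assoc, hz, Iso.hom_inv_id_assoc]
  let Ga := Red.Ga S
  let Φ : U ⊗ Ga ⟶ G := (fst U Ga ≫ s) * (snd U Ga ≫ i)
  have hΦ : Dense (Set.range Φ.left.base) := by
    rw [range_translate q i hker s, hs]
    exact hψ'd.preimage q.left.isOpenMap
  -- coordinates
  let pr : Am ⟶ An := AffineSpace.homOfVector (Am ↘ S)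
    (fun j => AffineSpace.coord S ⟨j.down.castSucc⟩)
  let W : Am.Opens := pr ⁻¹ᵁ V'
  let Wo : Over S := Over.mk (W.ι ≫ (Am ↘ S))
  let a : Wo ⟶ U := Over.homMk (pr ∣_ V') (by
    show (pr ∣_ V') ≫ V'.ι ≫ (An ↘ S) = W.ι ≫ (Am ↘ S)
    rw [morphismRestrict_ι_assoc, AffineSpace.homOfVector_over])
  obtain ⟨b, hb⟩ := exists_gaFn (S := S) (X := Wo) (W.ι.appTop (AffineSpace.coord S ⟨Fin.last n⟩))
  let θ : Wo ⟶ U ⊗ Ga := lift a b
  let cU : Fin n → Γ((U ⊗ Ga).left, ⊤) := fun j => ((fst U Ga).left ≫ V'.ι).appTop (AffineSpace.coord S ⟨j⟩)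
  let cG : Γ((U ⊗ Ga).left, ⊤) := Red.gaFn (snd U Ga)
  let τ : (U ⊗ Ga).left ⟶ Am := AffineSpace.homOfVector (U ⊗ Ga).hom
    (fun j => Fin.lastCases cG cU j.down)
  have hτpr : τ ≫ pr = (fst U Ga).left ≫ V'.ι := by
    refine AffineSpace.hom_ext ?_ fun j => ?_
    · rw [Category.assoc, AffineSpace.homOfVector_over, AffineSpace.homOfVector_over, Category.assoc]
      exact (Over.w (fst U Ga)).symm
    · rw [Scheme.Hom.comp_appTop, CommRingCat.comp_apply, AffineSpace.homOfVector_appTop_coord,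
        AffineSpace.homOfVector_appTop_coord]
      exact Fin.lastCases_castSucc ..
  have hτW : Set.range τ ⊆ Set.range W.ι := by
    rintro _ ⟨w, rfl⟩
    rw [Scheme.Opens.range_ι]
    show pr (τ w) ∈ V'
    rw [← Scheme.Hom.comp_apply, hτpr]
    exact ((fst U Ga).left w).2
  let τ' : U ⊗ Ga ⟶ Wo := Over.homMk (IsOpenImmersion.lift W.ι τ hτW) (by
    show IsOpenImmersion.lift W.ι τ hτW ≫ W.ι ≫ (Am ↘ S) = _
    rw [IsOpenImmersion.lift_fac_assoc, AffineSpace.homOfVector_over])
  have hid : τ' ≫ θ = 𝟙 _ := by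
    apply CartesianMonoidalCategory.hom_ext
    · rw [Category.assoc, lift_fst, Category.id_comp]
      refine Over.OverMorphism.ext ?_
      rw [← cancel_mono V'.ι]
      show (IsOpenImmersion.lift W.ι τ hτW ≫ (pr ∣_ V')) ≫ V'.ι = (fst U Ga).left ≫ V'.ι
      rw [Category.assoc, morphismRestrict_ι, IsOpenImmersion.lift_fac_assoc, hτpr]
    · rw [Category.assoc, lift_snd, Category.id_comp]
      apply gaFn_injective
      rw [gaFn_comp, hb]
      show (W.ι.appTop ≫ (IsOpenImmersion.lift W.ι τ hτW).appTop) _ = _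
      rw [← Scheme.Hom.comp_appTop, IsOpenImmersion.lift_fac, AffineSpace.homOfVector_appTop_coord]
      exact Fin.lastCases_last ..
  have hθ : Function.Surjective θ.left.base := fun p => ⟨τ'.left p, by
    rw [← Scheme.Hom.comp_apply, ← Over.comp_left, hid]; rfl⟩
  refine ⟨W, (θ ≫ Φ).left, ?_, ?_, Over.w (θ ≫ Φ)⟩
  · haveI : Nonempty ↥(U ⊗ Ga).left := by
      obtain ⟨p, hp⟩ := hΦ.inter_open_nonempty Set.univ isOpen_univ ⟨η[G].left (IsLocalRing.closedPoint κ), trivial⟩
      obtain ⟨w, -⟩ := hp.2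
      exact ⟨w⟩
    exact ⟨_, (τ'.left (Classical.arbitrary _)).2⟩
  · show Dense (Set.range (θ.left ≫ Φ.left).base)
    rw [Scheme.Hom.comp_base, TopCat.coe_comp, hθ.range_comp]
    exact hΦ

end Groth.Agent.UnirGa27
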