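import Groth.Agent.CAlgH3.FpqcTorsorLocal
import Groth.Prelude.Def_AlgGrp

/-!
# Quotients by `𝔾_a` have sections over affine schemes
-/

set_option autoImplicit false
set_option linter.all false
set_option backward.isDefEq.respectTransparency false
set_option backward.isDefEq.respectTransparency.types false
set_option synthInstance.maxHeartbeats 400000
set_option maxHeartbeats 1000000

universe u

open CategoryTheory CategoryTheory.Limits AlgebraicGeometry MonoidalCategory CartesianMonoidalCategory MonObj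
open TensorProduct
open Groth.Agent.CommAlg4.WittDescMat Groth.Agent.SGA3cLib Groth.Agent.CAlgH3.FpqcTorsorLocal

namespace Groth.Agent.UnirGa27

/-- A compact scheme flat and surjective over `T` has an affine one. -/
theorem exists_affine_cover {P T : Scheme.{u}} (h : P ⟶ T) [CompactSpace P] [Flat h] [Surjective h] :
    ∃ (Z : Scheme.{u}) (_ : IsAffine Z) (c : Z ⟶ P), Flat (c ≫ h) ∧ Surjective (c ≫ h) := by
  let 𝒰 := P.affineCover.finiteSubcover
  haveI : ∀ k, IsAffine (𝒰.X k) := fun k =>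
    show IsAffine (P.affineCover.X _) from inferInstance
  let c : (∐ fun k => 𝒰.X k) ⟶ P := Limits.Sigma.desc 𝒰.f
  haveI : Finite 𝒰.I₀ := inferInstance
  haveI : Flat c := IsZariskiLocalAtSource.sigmaDesc fun k => inferInstance
  haveI : Surjective c := ⟨fun z => by
    obtain ⟨k, w, hw⟩ := 𝒰.exists_eq z
    refine ⟨Sigma.ι (fun k => 𝒰.X k) k w, ?_⟩
    rw [← Scheme.Hom.comp_apply, Sigma.ι_desc]; exact hw⟩
  exact ⟨_, inferInstance, c, inferInstance, inferInstance⟩

/-- Points of the quotient by `𝔾_a` on affine schemes lift. -/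
theorem exists_lift {S : Scheme.{u}} {G Q : Over S} [GrpObj G] [GrpObj Q] (q : G ⟶ Q) [IsMonHom q]
    [Flat q.left] [Surjective q.left] [QuasiCompact q.left]
    (i : Red.Ga S ⟶ G) [IsMonHom i] (hker : AlgGrp.IsKernel i q)
    (A : Type u) [CommRing A] (y : Spec (CommRingCat.of A) ⟶ Q.left) :
    ∃ z : Spec (CommRingCat.of A) ⟶ G.left, z ≫ q.left = y := by
  haveI : CompactSpace ↥(pullback q.left y) := QuasiCompact.compactSpace_of_compactSpace (pullback.snd q.left y)
  obtain ⟨Z, _, c, hflat, hsurj⟩ := exists_affine_cover (pullback.snd q.left y)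
  obtain ⟨φ, hφ⟩ := Spec.map_surjective (Z.isoSpec.inv ≫ c ≫ pullback.snd q.left y)
  let _ : Algebra A Γ(Z, ⊤) := φ.hom.toAlgebra
  let B : Type u := Γ(Z, ⊤)
  let π : Spec (CommRingCat.of B) ⟶ Spec (CommRingCat.of A) := Spec.map (CommRingCat.ofHom (algebraMap A B))
  have hπ : π = Z.isoSpec.inv ≫ c ≫ pullback.snd q.left y := hφ
  haveI : Flat π := by rw [hπ]; infer_instance
  haveI : Surjective π := by rw [hπ]; infer_instance
  have hfl' : (algebraMap A B).Flat := (HasRingHomProperty.Spec_iff (P := @Flat)).1 ‹Flat π›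
  haveI : Module.Flat A B := RingHom.flat_algebraMap_iff.1 hfl'
  haveI : Module.FaithfullyFlat A B := Module.FaithfullyFlat.of_comap_surjective fun p => π.surjective p
  let j : Spec (CommRingCat.of A) ⟶ S := y ≫ Q.hom
  let x : Tm j B ⟶ G := Over.homMk (Z.isoSpec.inv ≫ c ≫ pullback.fst q.left y) (by
    show (Z.isoSpec.inv ≫ c ≫ pullback.fst q.left y) ≫ G.hom = π ≫ y ≫ Q.hom
    rw [hπ, Category.assoc, Category.assoc, Category.assoc, Category.assoc]
    congr 2
    rw [← Category.assoc (pullback.snd q.left y), ← pullback.condition, Category.assoc, Over.w])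
  have hxq : x.left ≫ q.left = π ≫ y := by
    rw [hπ, Category.assoc, Category.assoc]
    show (Z.isoSpec.inv ≫ c ≫ pullback.fst q.left y) ≫ q.left = _
    rw [Category.assoc, Category.assoc, pullback.condition]
  have h12 : (p1 j B ≫ x) ≫ q = (p2 j B ≫ x) ≫ q := by
    refine Over.OverMorphism.ext ?_
    show (Spec.map (CommRingCat.ofHom (i1 (R := A) (R' := B))) ≫ x.left) ≫ q.left =
      (Spec.map (CommRingCat.ofHom (i2 (R := A) (R' := B))) ≫ x.left) ≫ q.left
    rw [Category.assoc, Category.assoc, hxq, ← Category.assoc, ← Category.assoc]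
    congr 1
    rw [← Spec.map_comp, ← Spec.map_comp, ← CommRingCat.ofHom_comp, ← CommRingCat.ofHom_comp, i1_comp, i2_comp]
  have h1 : η[Q] = (1 : 𝟙_ (Over S) ⟶ Q) := by
    rw [Hom.one_def, toUnit_unique (toUnit (𝟙_ (Over S))) (𝟙 _), Category.id_comp]
  let d := (p2 j B ≫ x) * (p1 j B ≫ x)⁻¹
  have hd : d ≫ q = toUnit _ ≫ η[Q] := by
    show ((p2 j B ≫ x) * (p1 j B ≫ x)⁻¹) ≫ q = _
    rw [MonObj.mul_comp, GrpObj.inv_comp, h12, mul_inv_cancel, h1, MonObj.comp_one]
  let g : Tm j (T2 A B) ⟶ Red.Ga S := hker.lift d (toUnit _) hd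
  have hg : g ≫ i = d := hker.lift_fst _ _ _
  have himono : ∀ {T : Over S} (a b : T ⟶ Red.Ga S), a ≫ i = b ≫ i → a = b :=
    fun a b h => hker.hom_ext h (toUnit_unique _ _)
  have hcoc : (q23 j B ≫ g) * (q12 j B ≫ g) = q13 j B ≫ g := by
    refine himono _ _ ?_
    rw [MonObj.mul_comp, Category.assoc, Category.assoc, Category.assoc, hg]
    simp only [d, MonObj.comp_mul, GrpObj.comp_inv, ← Category.assoc]
    rw [q12_p2, q13_p1, q13_p2]
    group
  let δ := val (T2 A B) (Red.gaFn g)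
  have hadd : ∀ {R : Type u} [CommRing R] (r s : Γ(Spec (CommRingCat.of R), ⊤)), val R (r + s) = val R r + val R s :=
    fun r s => map_add (Scheme.ΓSpecIso _).hom.hom r s
  have hδ : d23 δ = d13 δ - d12 δ := by
    have h := congrArg (fun m => val (T3 A B) (Red.gaFn m)) hcoc
    simp only [gaFn_mul, gaFn_comp] at h
    erw [hadd] at h
    simp only [q12, q13, q23, val_map] at h
    exact eq_sub_of_add_eq h
  let D : B →ₗ[A] T2 A B := (Algebra.TensorProduct.includeRight : B →ₐ[A] T2 A B).toLinearMap -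
    (Algebra.TensorProduct.includeLeft : B →ₐ[A] T2 A B).toLinearMap
  have hD : ∀ t : T2 A B, D.lTensor B t = d13 t - d12 t := fun t => by
    induction t using TensorProduct.induction_on with
    | zero => simp
    | tmul b c =>
      show b ⊗ₜ[A] (((1 : B) ⊗ₜ[A] c) - c ⊗ₜ[A] (1 : B)) = _
      rw [TensorProduct.tmul_sub, d13_tmul, d12_tmul]
    | add v w hv hw => rw [map_add, map_add, map_add, hv, hw]; abel
  obtain ⟨z, hz⟩ : δ ∈ LinearMap.range D := by
    refine Desc19b.mem_range_of_one_tmul_mem (A := B) D ⟨δ, ?_⟩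
    rw [hD, ← hδ]
    exact d23_apply δ
  have hz' : i2 z - i1 z = δ := hz
  obtain ⟨r, hr⟩ := val_surjective B (-z)
  obtain ⟨v, hv⟩ := exists_gaFn (X := Tm j B) r
  let x' : Tm j B ⟶ G := (v ≫ i) * x
  have hx' : p1 j B ≫ x' = p2 j B ≫ x' := by
    have h2 : p2 j B ≫ x = (g ≫ i) * (p1 j B ≫ x) := by rw [hg]; exact (inv_mul_cancel_right _ _).symm
    show p1 j B ≫ ((v ≫ i) * x) = p2 j B ≫ ((v ≫ i) * x)
    rw [MonObj.comp_mul, MonObj.comp_mul, h2, ← _root_.mul_assoc, ← Category.assoc, ← Category.assoc,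
      ← MonObj.mul_comp]
    refine congrArg (fun t => (t ≫ i) * (p1 j B ≫ x)) (gaFn_injective (val_injective _ ?_))
    simp only [gaFn_mul, gaFn_comp, p1, p2]
    erw [hadd]
    simp only [val_map, hv, hr, map_neg]
    show -i1 z = -i2 z + δ
    rw [← hz']
    abel
  have hcond : ∀ {W : Scheme.{u}} (g₁ g₂ : W ⟶ Spec (CommRingCat.of B)), g₁ ≫ π = g₂ ≫ π →
      g₁ ≫ x'.left = g₂ ≫ x'.left := by
    intro W g₁ g₂ h
    have e1 : pullback.fst π π ≫ x'.left = pullback.snd π π ≫ x'.left := by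
      rw [← cancel_epi (pullbackSpecIso A B B).inv, ← Category.assoc, ← Category.assoc]
      erw [pullbackSpecIso_inv_fst, pullbackSpecIso_inv_snd]
      exact congrArg (fun m : Tm j (T2 A B) ⟶ G => m.left) hx'
    rw [← pullback.lift_fst g₁ g₂ h, Category.assoc, e1, ← Category.assoc, pullback.lift_snd]
  refine ⟨EffectiveEpi.desc π x'.left fun g₁ g₂ h => hcond g₁ g₂ h, ?_⟩
  rw [← cancel_epi π, EffectiveEpi.fac_assoc]
  have hx'q : x' ≫ q = x ≫ q := by
    have hi : i ≫ q = toUnit _ ≫ η[Q] := hker.w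
    show ((v ≫ i) * x) ≫ q = _
    rw [MonObj.mul_comp, Category.assoc, hi, h1, MonObj.comp_one, MonObj.comp_one, _root_.one_mul]
  exact (congrArg CommaMorphism.left hx'q).trans hxq

end Groth.Agent.UnirGa27
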